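import Mathlib

set_option autoImplicit false

namespace CL.OD4

open Complex

theorem prime_case (σ : ℂ →+* ℂ) (hσ : ∀ (z : ℂ) (n : ℕ), Odd n → z ^ n = 1 → σ z = z)
    (p : ℕ) (hp : p.Prime) (ho : Odd p) :
    ∃ e : ℤ, (e = p ∨ e = -p) ∧ e % 4 = 1 ∧ ∃ s : ℂ, s ^ 2 = e ∧ σ s = s := by
  have := Fact.mk hp
  have h2 : ringChar (ZMod p) ≠ 2 := by
    rw [ZMod.ringChar_zmod_n]; rintro rfl; exact absurd ho (by decide)
  let χ : MulChar (ZMod p) ℂ := (quadraticChar (ZMod p)).ringHomComp (Int.castRingHom ℂ)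
  have hχ : χ ≠ 1 :=
    (MulChar.ringHomComp_ne_one_iff (Int.castRingHom ℂ).injective_int).2 (quadraticChar_ne_one h2)
  have hq : χ.IsQuadratic := (quadraticChar_isQuadratic (ZMod p)).comp _
  have hs := gaussSum_sq hχ hq (ZMod.isPrimitive_stdAddChar p)
  have hfix : σ (gaussSum χ ZMod.stdAddChar) = gaussSum χ ZMod.stdAddChar := by
    unfold gaussSum
    rw [map_sum]
    refine Finset.sum_congr rfl fun a _ => ?_
    rw [map_mul, hσ (ZMod.stdAddChar a) p ho]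
    · congr 1
      simp [χ]
    · rw [← AddChar.map_nsmul_eq_pow, nsmul_eq_mul, CharP.cast_eq_zero, zero_mul,
        AddChar.map_zero_eq_one]
  have hm : χ (-1) = ((ZMod.χ₄ p : ℤ) : ℂ) := by
    have := quadraticChar_neg_one h2
    rw [ZMod.card] at this
    simp [χ, this]
  rw [hm, ZMod.card] at hs
  have h4 : p % 4 = 1 ∨ p % 4 = 3 := by obtain ⟨k, hk⟩ := ho; omega
  rcases h4 with h | h
  · rw [ZMod.χ₄_nat_one_mod_four h] at hs
    exact ⟨p, Or.inl rfl, by omega, _, by simpa using hs, hfix⟩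
  · rw [ZMod.χ₄_nat_three_mod_four h] at hs
    exact ⟨-p, Or.inr rfl, by omega, _, by simpa using hs, hfix⟩

theorem nat_case (σ : ℂ →+* ℂ) (hσ : ∀ (z : ℂ) (n : ℕ), Odd n → z ^ n = 1 → σ z = z) (n : ℕ) :
    Odd n → ∃ e : ℤ, (e = n ∨ e = -n) ∧ e % 4 = 1 ∧ ∃ s : ℂ, s ^ 2 = e ∧ σ s = s := by
  induction n using Nat.recOnMul with
  | zero => intro h; exact absurd h (by decide)
  | one => intro _; exact ⟨1, Or.inl rfl, rfl, 1, by simp, map_one σ⟩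
  | prime p hp => exact prime_case σ hσ p hp
  | mul a b ha hb =>
    intro h
    obtain ⟨h1, h2⟩ := Nat.odd_mul.1 h
    obtain ⟨e, he, he4, s, hs, hs'⟩ := ha h1
    obtain ⟨f, hf, hf4, t, ht, ht'⟩ := hb h2
    refine ⟨e * f, ?_, by rw [Int.mul_emod, he4, hf4]; rfl, s * t, by
      rw [mul_pow, hs, ht]; push_cast; rfl, by rw [map_mul, hs', ht']⟩
    rcases he with rfl | rfl <;> rcases hf with rfl | rfl <;> simp

theorem sqrt_fix (σ : ℂ →+* ℂ) (hσ : ∀ (z : ℂ) (n : ℕ), Odd n → z ^ n = 1 → σ z = z)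
    (D : ℤ) (hD : D % 4 = 1) : ∃ s : ℂ, s ^ 2 = D ∧ σ s = s := by
  have ho : Odd D.natAbs := Int.natAbs_odd.2 (Int.odd_iff.2 (by omega))
  obtain ⟨e, he, he4, h⟩ := nat_case σ hσ _ ho
  have : e = D := by omega
  exact this ▸ h

theorem mod4 (σ : ℂ →+* ℂ) (hσ : ∀ (z : ℂ) (n : ℕ), Odd n → z ^ n = 1 → σ z = z)
    (hI : σ I = -I) (d : ℂ) (D : ℤ) (r : ℚ) (hr : r ≠ 0) (hD : Odd D) (h : d ^ 2 = D * (r : ℂ) ^ 2) :
    (σ d = d ↔ D % 4 = 1) ∧ (σ d = -d ↔ D % 4 = 3) := by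
  have hD0 : (D : ℂ) ≠ 0 := by
    rw [Int.cast_ne_zero]; rintro rfl; exact absurd hD (by decide)
  have hr0 : (r : ℂ) ≠ 0 := by exact_mod_cast hr
  have hd : d ≠ 0 := by
    rintro rfl
    exact mul_ne_zero hD0 (pow_ne_zero 2 hr0) (by rw [← h]; simp)
  have hne : d ≠ -d := fun e => hd (by linear_combination e / 2)
  have h1 : D % 4 = 1 → σ d = d := fun h4 => by
    obtain ⟨s, hs, hs'⟩ := sqrt_fix σ hσ D h4
    have : d ^ 2 = (s * r) ^ 2 := by rw [h, mul_pow, hs]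
    rcases sq_eq_sq_iff_eq_or_eq_neg.1 this with e | e <;> rw [e] <;> simp [hs']
  have h3 : D % 4 = 3 → σ d = -d := fun h4 => by
    obtain ⟨s, hs, hs'⟩ := sqrt_fix σ hσ (-D) (by omega)
    have : d ^ 2 = (I * s * r) ^ 2 := by
      rw [h, mul_pow, mul_pow, hs, I_sq]; push_cast; ring
    rcases sq_eq_sq_iff_eq_or_eq_neg.1 this with e | e <;> rw [e] <;> simp [hs', hI]
  have h4 : D % 4 = 1 ∨ D % 4 = 3 := by obtain ⟨k, hk⟩ := hD; omega
  refine ⟨⟨fun e => h4.resolve_right fun h' => hne (e.symm.trans (h3 h')), h1⟩,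
    ⟨fun e => h4.resolve_left fun h' => hne ((h1 h').symm.trans e), h3⟩⟩

end CL.OD4
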